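import Groth.Agent.AffDiv.Point
import Mathlib

/-!
# Affine charts of affine space over a scheme
-/

set_option autoImplicit false
set_option maxHeartbeats 1000000
set_option backward.isDefEq.respectTransparency false
set_option backward.isDefEq.respectTransparency.types false
set_option linter.style.haveILetI false

universe u

open CategoryTheory CategoryTheory.Limits AlgebraicGeometry TopologicalSpace
open scoped nonZeroDivisors

noncomputable section

namespace Groth.Agent.AffDiv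

variable {n : Type u} {X : Scheme.{u}}

theorem exists_polyEquiv (V : X.Opens) (hV : IsAffineOpen V) :
    ∃ e : MvPolynomial n Γ(X, V) ≃+* Γ(𝔸(n; X), (𝔸(n; X) ↘ X) ⁻¹ᵁ V),
      ∀ a, e (MvPolynomial.C a) = (𝔸(n; X) ↘ X).app V a := by
  haveI : IsOpenImmersion (AffineSpace.map n hV.fromSpec) :=
    MorphismProperty.of_isPullback (AffineSpace.isPullback_map hV.fromSpec).flip inferInstance
  let k : Spec (.of (MvPolynomial n Γ(X, V))) ⟶ 𝔸(n; X) :=
    (AffineSpace.SpecIso n Γ(X, V)).inv ≫ AffineSpace.map n hV.fromSpec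
  have hk : k ≫ (𝔸(n; X) ↘ X) = Spec.map (CommRingCat.ofHom MvPolynomial.C) ≫ hV.fromSpec := by
    rw [Category.assoc, AffineSpace.map_over, AffineSpace.SpecIso_inv_over_assoc]
  have hrange : k ''ᵁ ⊤ = (𝔸(n; X) ↘ X) ⁻¹ᵁ V := by
    apply Opens.ext
    rw [Scheme.Hom.image_top_eq_opensRange, Scheme.Hom.coe_opensRange]
    have h1 : Set.range k = Set.range (AffineSpace.map n hV.fromSpec) := by
      rw [show ⇑k = ⇑(AffineSpace.map n hV.fromSpec) ∘ ⇑(AffineSpace.SpecIso n Γ(X, V)).inv from rfl]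
      exact (Scheme.Hom.surjective _).range_comp _
    rw [h1, ← (AffineSpace.isPullback_map (n := n) hV.fromSpec).isoPullback_hom_fst,
      show ⇑((AffineSpace.isPullback_map (n := n) hV.fromSpec).isoPullback.hom ≫
        pullback.fst (𝔸(n; X) ↘ X) hV.fromSpec) = ⇑(pullback.fst (𝔸(n; X) ↘ X) hV.fromSpec) ∘
          ⇑(AffineSpace.isPullback_map (n := n) hV.fromSpec).isoPullback.hom from rfl,
      (Scheme.Hom.surjective _).range_comp, Scheme.Pullback.range_fst, hV.range_fromSpec]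
    rfl
  suffices key : ∀ (U : 𝔸(n; X).Opens), k ''ᵁ ⊤ = U → ∀ h : U ≤ (𝔸(n; X) ↘ X) ⁻¹ᵁ V,
      ∃ e : MvPolynomial n Γ(X, V) ≃+* Γ(𝔸(n; X), U),
        ∀ a, e (MvPolynomial.C a) = (𝔸(n; X) ↘ X).appLE V U h a by
    obtain ⟨e, he⟩ := key _ hrange le_rfl
    refine ⟨e, fun a => (he a).trans ?_⟩
    rw [Scheme.Hom.appLE_eq_app]
  rintro U rfl h
  let i : Γ(𝔸(n; X), k ''ᵁ ⊤) ≅ CommRingCat.of (MvPolynomial n Γ(X, V)) :=
    k.appIso ⊤ ≪≫ Scheme.ΓSpecIso _
  refine ⟨i.commRingCatIsoToRingEquiv.symm, fun a => ?_⟩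
  rw [RingEquiv.symm_apply_eq]
  have hcomp : (𝔸(n; X) ↘ X).appLE V (k ''ᵁ ⊤) h ≫ i.hom = CommRingCat.ofHom MvPolynomial.C := by
    rw [Iso.trans_hom, Scheme.Hom.appIso_hom', ← Category.assoc, Scheme.Hom.appLE_comp_appLE]
    have : ∀ (f g : Spec (.of (MvPolynomial n Γ(X, V))) ⟶ X) (e : f = g) (h1 : ⊤ ≤ f ⁻¹ᵁ V)
        (h2 : ⊤ ≤ g ⁻¹ᵁ V), f.appLE V ⊤ h1 = g.appLE V ⊤ h2 := by rintro f g rfl _ _; rfl
    rw [this _ _ hk _ (by rw [Scheme.Hom.comp_preimage, hV.fromSpec_preimage_self]; rfl),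
      Scheme.Hom.comp_appLE, hV.fromSpec_app_self]
    simp only [Category.assoc, Scheme.Hom.map_appLE]
    rw [show ∀ (h' : (⊤ : (Spec (.of (MvPolynomial n Γ(X, V)))).Opens) ≤
        Spec.map (CommRingCat.ofHom MvPolynomial.C) ⁻¹ᵁ ⊤),
        (Spec.map (CommRingCat.ofHom (MvPolynomial.C (R := Γ(X, V)) (σ := n)))).appLE ⊤ ⊤ h' =
          (Spec.map (CommRingCat.ofHom MvPolynomial.C)).appTop from fun _ => Scheme.Hom.appLE_eq_app ..]
    show (Scheme.ΓSpecIso Γ(X, V)).inv ≫ (Spec.map (CommRingCat.ofHom MvPolynomial.C)).appTop ≫ _ = _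
    rw [← Scheme.ΓSpecIso_inv_naturality_assoc, Iso.inv_hom_id, Category.comp_id]
  exact (congrArg (fun f : Γ(X, V) ⟶ CommRingCat.of (MvPolynomial n Γ(X, V)) => f a) hcomp).symm

variable [IsIntegral X]

theorem chart_props {V : X.Opens} [Nonempty V] (hV : IsAffineOpen V) :
    IsAffineOpen ((𝔸(n; X) ↘ X) ⁻¹ᵁ V) ∧ IsVert ((𝔸(n; X) ↘ X).app V).hom ∧
      ∃ ψ : Γ(𝔸(n; X), (𝔸(n; X) ↘ X) ⁻¹ᵁ V) →+* MvPolynomial n X.functionField,
        IsHor ((𝔸(n; X) ↘ X).app V).hom ψ := by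
  classical
  obtain ⟨e, he⟩ := exists_polyEquiv (n := n) V hV
  set φ := ((𝔸(n; X) ↘ X).app V).hom
  have hφ : φ = e.toRingHom.comp MvPolynomial.C := RingHom.ext fun a => (he a).symm
  haveI := functionField_isFractionRing_of_isAffineOpen X V hV
  have hκ : Function.Injective (algebraMap Γ(X, V) X.functionField) := IsFractionRing.injective _ _
  refine ⟨hV.preimage _, ⟨?_, ?_, ?_⟩,
    (MvPolynomial.map (algebraMap Γ(X, V) X.functionField)).comp e.symm.toRingHom, ?_⟩
  · rw [hφ]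
    exact e.injective.comp (MvPolynomial.C_injective n _)
  · intro p hp
    rw [hφ, ← Ideal.map_map]
    haveI : (p.map (MvPolynomial.C : Γ(X, V) →+* MvPolynomial n Γ(X, V))).IsPrime := by
      haveI := hp
      rw [← Ideal.Quotient.isDomain_iff_prime]
      exact (MvPolynomial.quotientEquivQuotientMvPolynomial p).symm.toRingEquiv.toMulEquiv.isDomain _
    exact Ideal.map_isPrime_of_equiv e
  · intro p
    refine le_antisymm (fun a ha => ?_) Ideal.le_comap_map
    rw [hφ, ← Ideal.map_map, Ideal.mem_comap, RingHom.comp_apply] at ha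
    have ha' : MvPolynomial.C a ∈ p.map (MvPolynomial.C : Γ(X, V) →+* MvPolynomial n Γ(X, V)) :=
      (Ideal.apply_mem_of_equiv_iff (f := e)).1 ha
    simpa [MvPolynomial.mem_map_C_iff] using MvPolynomial.mem_map_C_iff.1 ha' 0
  letI : Algebra (MvPolynomial n Γ(X, V)) (MvPolynomial n X.functionField) :=
    MvPolynomial.algebraMvPolynomial
  haveI := MvPolynomial.isLocalization (σ := n) Γ(X, V)⁰ X.functionField
  have hψφ : ∀ a, MvPolynomial.map (algebraMap Γ(X, V) X.functionField) (e.symm (φ a)) =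
      MvPolynomial.C (algebraMap Γ(X, V) X.functionField a) := fun a => by
    rw [show φ a = e (MvPolynomial.C a) from (he a).symm, e.symm_apply_apply, MvPolynomial.map_C]
  constructor
  · exact (MvPolynomial.map_injective _ hκ).comp e.symm.injective
  · intro a ha
    rw [RingHom.comp_apply, RingEquiv.toRingHom_eq_coe, RingEquiv.coe_toRingHom, hψφ]
    exact (isUnit_iff_ne_zero.2 ((map_ne_zero_iff _ hκ).2 ha)).map _
  · intro r
    obtain ⟨⟨b, ⟨_, a, ha, rfl⟩⟩, hb⟩ :=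
      IsLocalization.surj (Γ(X, V)⁰.map (MvPolynomial.C (σ := n))) r
    refine ⟨a, nonZeroDivisors.ne_zero ha, e b, ?_⟩
    simp only [RingHom.comp_apply, RingEquiv.toRingHom_eq_coe, RingEquiv.coe_toRingHom,
      e.symm_apply_apply, hψφ]
    rw [MvPolynomial.algebraMap_def, MvPolynomial.map_C] at hb
    exact hb.symm
  · intro w hw
    obtain ⟨c, hc⟩ : ∃ c : X.functionField, w = MvPolynomial.C c :=
      ⟨w.coeff 0, MvPolynomial.totalDegree_eq_zero_iff_eq_C.1
        (MvPolynomial.isUnit_iff_totalDegree_of_isReduced.1 hw).2⟩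
    obtain ⟨a, a', ha', hca⟩ := IsFractionRing.div_surjective (A := Γ(X, V)) c
    have ha'0 : algebraMap Γ(X, V) X.functionField a' ≠ 0 :=
      (map_ne_zero_iff _ hκ).2 (nonZeroDivisors.ne_zero ha')
    refine ⟨a, a', ?_, nonZeroDivisors.ne_zero ha', ?_⟩
    · rintro rfl
      rw [map_zero, zero_div] at hca
      rw [hc, ← hca, map_zero] at hw
      exact not_isUnit_zero hw
    · simp only [RingHom.comp_apply, RingEquiv.toRingHom_eq_coe, RingEquiv.coe_toRingHom, hψφ, hc]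
      rw [← map_mul, ← hca, div_mul_cancel₀ _ ha'0]

end Groth.Agent.AffDiv
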