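import Groth.Agent.AffDiv.Main
import Mathlib

/-!
# Rational functions on affine space without horizontal zeros and poles
-/

set_option autoImplicit false
set_option maxHeartbeats 1000000
set_option backward.isDefEq.respectTransparency false
set_option backward.isDefEq.respectTransparency.types false
set_option linter.style.haveILetI false

universe u

open CategoryTheory CategoryTheory.Limits AlgebraicGeometry TopologicalSpace IsLocalRing

noncomputable section

namespace Groth.Agent.AffDiv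

variable {n : Type u} {X : Scheme.{u}} [IsIntegral X] [IsLocallyNoetherian 𝔸(n; X)]

/-- A rational function on affine space with no zero or pole over the generic point comes from the base. -/
theorem exists_const {g : 𝔸(n; X).functionField} (hg : g ≠ 0)
    (h : ∀ y : 𝔸(n; X), Order.coheight y = 1 → (𝔸(n; X) ↘ X) y = genericPoint X → Scheme.ord g y = 0) :
    ∃ f : X.functionField, f ≠ 0 ∧ pull n X f = g := by
  classical
  obtain ⟨V, hV, hxV, -⟩ :=
    exists_isAffineOpen_mem_and_subset (X := X) (x := genericPoint X) (U := (⊤ : X.Opens)) trivial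
  haveI : Nonempty V := ⟨⟨_, hxV⟩⟩
  obtain ⟨hU, -, ψ, hψ⟩ := chart_props (n := n) hV
  haveI : Nonempty ((𝔸(n; X) ↘ X) ⁻¹ᵁ V) := nonempty_preimage V
  haveI := functionField_isFractionRing_of_isAffineOpen 𝔸(n; X) _ hU
  set U := (𝔸(n; X) ↘ X) ⁻¹ᵁ V
  set φ := ((𝔸(n; X) ↘ X).app V).hom
  obtain ⟨q₁, q₂, hq₂, hq⟩ := IsFractionRing.div_surjective (A := Γ(𝔸(n; X), U)) g
  have hinj := 𝔸(n; X).germToFunctionField_injective U
  have h2 : q₂ ≠ 0 := nonZeroDivisors.ne_zero hq₂
  have h1 : q₁ ≠ 0 := by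
    rintro rfl
    rw [map_zero, zero_div] at hq
    exact hg hq.symm
  have hι : ∀ {q : Γ(𝔸(n; X), U)}, q ≠ 0 → 𝔸(n; X).germToFunctionField U q ≠ 0 := fun hq =>
    (map_ne_zero_iff _ hinj).2 hq
  change 𝔸(n; X).germToFunctionField U q₁ / 𝔸(n; X).germToFunctionField U q₂ = g at hq
  rcases ratio_cases hψ q₁ q₂ h1 h2 with ⟨a, a', ha, ha', hrel⟩ |
      ⟨P, b, r₁, r₂, hP, h0, hb, hgen, hr₁, hr₂, hrel, hcase⟩
  · have hi := X.germToFunctionField_injective V
    refine ⟨X.germToFunctionField V a / X.germToFunctionField V a',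
      div_ne_zero ((map_ne_zero_iff _ hi).2 ha) ((map_ne_zero_iff _ hi).2 ha'), ?_⟩
    rw [map_div₀, pull_germ, pull_germ, ← hq]
    have hφa' : φ a' ≠ 0 := fun h => hι h2 (by
      have := hψ.isUnit a' ha'
      rw [h, map_zero] at this
      exact absurd this not_isUnit_zero)
    rw [div_eq_div_iff (hι hφa') (hι h2), ← map_mul, ← map_mul, mul_comm, hrel]
  · exfalso
    obtain ⟨y, hyU, hy⟩ := exists_point hU P
    subst hy
    obtain ⟨-, -, hcy⟩ := gen_point hU hyU hb hgen
    have hyη : (𝔸(n; X) ↘ X) y = genericPoint X := pr_inj hV hyU (gen_mem V) (by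
      rw [pr_genericPoint hV, ← comap_pr hV hU hyU, h0])
    have hz : Scheme.ord g y = 0 := h y hcy hyη
    have hg' : g * 𝔸(n; X).germToFunctionField U r₂ = 𝔸(n; X).germToFunctionField U r₁ := by
      rw [← hq, div_mul_eq_mul_div, div_eq_iff (hι h2), ← map_mul, ← map_mul, hrel, mul_comm]
    have h3 := Scheme.ord_mul (x := y) hg (hι hr₂)
    rw [hg', hz, zero_add] at h3
    rcases hcase with ⟨hm, hn⟩ | ⟨hn, hm⟩
    · have h4 := ord_mem_pos hU hyU hb hgen hr₁ hm
      rw [h3, ord_not_mem hU hyU hcy hn] at h4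
      exact lt_irrefl _ h4
    · have h4 := ord_mem_pos hU hyU hb hgen hr₂ hm
      rw [← h3, ord_not_mem hU hyU hcy hn] at h4
      exact lt_irrefl _ h4

end Groth.Agent.AffDiv
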