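import Groth.Agent.AffDiv.Chart
import Mathlib

/-!
# Codimension one points of affine space over a scheme which is regular in codimension one
-/

set_option autoImplicit false
set_option maxHeartbeats 1000000
set_option backward.isDefEq.respectTransparency false
set_option backward.isDefEq.respectTransparency.types false
set_option linter.style.haveILetI false

universe u

open CategoryTheory CategoryTheory.Limits AlgebraicGeometry TopologicalSpace IsLocalRing

noncomputable section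

namespace Groth.Agent.AffDiv

variable {n : Type u} {X : Scheme.{u}} [IsIntegral X]

theorem over_genericPoint : (𝔸(n; X) ↘ X) (genericPoint 𝔸(n; X)) = genericPoint X := by
  refine ((genericPoint_spec X).eq ?_).symm
  have h := (genericPoint_spec 𝔸(n; X)).image (𝔸(n; X) ↘ X).continuous
  rwa [Set.image_univ, (𝔸(n; X) ↘ X).surjective.range_eq, closure_univ] at h

theorem over_gen_specializes (x : X) : (𝔸(n; X) ↘ X) (genericPoint 𝔸(n; X)) ⤳ x := by
  rw [over_genericPoint]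
  exact (genericPoint_spec X).specializes trivial

/-- Rational functions pulled back to affine space. -/
def pull (n : Type u) (X : Scheme.{u}) [IsIntegral X] : X.functionField →+* 𝔸(n; X).functionField :=
  ((𝔸(n; X) ↘ X).stalkMap (genericPoint 𝔸(n; X))).hom.comp
    (X.presheaf.stalkSpecializes (over_gen_specializes (n := n) (genericPoint X))).hom

theorem pull_sp (y : 𝔸(n; X)) (a : X.presheaf.stalk ((𝔸(n; X) ↘ X) y)) :
    pull n X (sp _ a) = sp y ((𝔸(n; X) ↘ X).stalkMap y a) := by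
  show (𝔸(n; X) ↘ X).stalkMap _ (X.presheaf.stalkSpecializes _ (X.presheaf.stalkSpecializes _ a)) = _
  rw [TopCat.Presheaf.stalkSpecializes_comp_apply]
  exact Scheme.Hom.stalkSpecializes_stalkMap_apply _ _ _ _ a

theorem pull_germ (V : X.Opens) [Nonempty V] [Nonempty ((𝔸(n; X) ↘ X) ⁻¹ᵁ V)] (a : Γ(X, V)) :
    pull n X (X.germToFunctionField V a) =
      𝔸(n; X).germToFunctionField ((𝔸(n; X) ↘ X) ⁻¹ᵁ V) ((𝔸(n; X) ↘ X).app V a) := by
  obtain ⟨⟨y, hy⟩⟩ := ‹Nonempty ((𝔸(n; X) ↘ X) ⁻¹ᵁ V)›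
  rw [← sp_germ (U := V) (x := (𝔸(n; X) ↘ X) y) hy a, pull_sp, Scheme.Hom.germ_stalkMap_apply, sp_germ]

theorem nonempty_preimage (V : X.Opens) [hV : Nonempty V] : Nonempty ((𝔸(n; X) ↘ X) ⁻¹ᵁ V) := by
  obtain ⟨⟨x, hx⟩⟩ := hV
  obtain ⟨y, rfl⟩ := (𝔸(n; X) ↘ X).surjective x
  exact ⟨⟨y, hx⟩⟩

theorem gen_mem (V : X.Opens) [Nonempty V] : genericPoint X ∈ V :=
  ((genericPoint_spec X).mem_open_set_iff V.isOpen).mpr (by simpa using ‹Nonempty V›)

theorem pr_genericPoint {V : X.Opens} [Nonempty V] (hV : IsAffineOpen V) :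
    pr hV (gen_mem V) = ⊥ := by
  refine (Submodule.eq_bot_iff _).2 fun q hq => ?_
  rw [mem_pr_iff] at hq
  have : X.germToFunctionField V q = 0 := by
    by_contra h
    exact hq (isUnit_iff_ne_zero.2 h)
  exact X.germToFunctionField_injective V (this.trans (map_zero _).symm)

theorem comap_pr {V : X.Opens} (hV : IsAffineOpen V) (hU : IsAffineOpen ((𝔸(n; X) ↘ X) ⁻¹ᵁ V))
    {y : 𝔸(n; X)} (hy : (𝔸(n; X) ↘ X) y ∈ V) :
    (pr (x := y) hU hy).comap ((𝔸(n; X) ↘ X).app V).hom = pr hV hy := by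
  ext a
  rw [Ideal.mem_comap, mem_pr_iff, mem_pr_iff, ← Scheme.Hom.germ_stalkMap_apply]
  exact not_congr ⟨fun h => IsLocalHom.map_nonunit _ h, fun h => h.map _⟩

/-- A codimension one point of affine space lies over the generic point or over a codimension one point,
and in the latter case it is determined by it. -/
theorem classify {y : 𝔸(n; X)} (hy : Order.coheight y = 1)
    (hne : (𝔸(n; X) ↘ X) y ≠ genericPoint X) :
    Order.coheight ((𝔸(n; X) ↘ X) y) = 1 ∧
      ∀ y' : 𝔸(n; X), Order.coheight y' = 1 → (𝔸(n; X) ↘ X) y' = (𝔸(n; X) ↘ X) y → y' = y := by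
  obtain ⟨V, hV, hxV, -⟩ :=
    exists_isAffineOpen_mem_and_subset (X := X) (x := (𝔸(n; X) ↘ X) y) (U := (⊤ : X.Opens)) trivial
  haveI : Nonempty V := ⟨⟨_, hxV⟩⟩
  obtain ⟨hU, hvert, -⟩ := chart_props (n := n) hV
  haveI : Nonempty ((𝔸(n; X) ↘ X) ⁻¹ᵁ V) := nonempty_preimage V
  have h0 : ∀ {z : X} (hz : z ∈ V), z ≠ genericPoint X → pr hV hz ≠ ⊥ := fun hz hne h =>
    hne (pr_inj hV hz (gen_mem V) (h.trans (pr_genericPoint hV).symm))
  have hc := comap_pr hV hU hxV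
  have h1 := vert_of_minNZ hvert (pr (x := y) hU hxV) (minNZ_pr hU _ hy) (hc ▸ h0 hxV hne)
  rw [hc] at h1
  refine ⟨coheight_of_minNZ hV hxV (h0 hxV hne) h1.2, fun y' hy' hyy' => ?_⟩
  have hxV' : (𝔸(n; X) ↘ X) y' ∈ V := hyy' ▸ hxV
  have hc' := comap_pr hV hU hxV'
  have h2 := vert_of_minNZ hvert (pr (x := y') hU hxV') (minNZ_pr hU _ hy')
    (hc' ▸ h0 hxV' (hyy' ▸ hne))
  rw [hc'] at h2
  refine pr_inj hU hxV' hxV ?_
  rw [h1.1, h2.1]
  congr 2

variable [IsLocallyNoetherian X] [IsLocallyNoetherian 𝔸(n; X)]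

/-- The codimension one point over a codimension one point. -/
theorem exists_vert {x : X} (hx : Order.coheight x = 1)
    (hR1 : IsDiscreteValuationRing (X.presheaf.stalk x)) :
    ∃ y : 𝔸(n; X), Order.coheight y = 1 ∧ (𝔸(n; X) ↘ X) y = x ∧
      ∀ c : X.functionField, c ≠ 0 → Scheme.ord (pull n X c) y = Scheme.ord c x := by
  obtain ⟨V, hV, hxV, -⟩ :=
    exists_isAffineOpen_mem_and_subset (X := X) (x := x) (U := (⊤ : X.Opens)) trivial
  haveI : Nonempty V := ⟨⟨x, hxV⟩⟩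
  obtain ⟨hU, hvert, -⟩ := chart_props (n := n) hV
  haveI : Nonempty ((𝔸(n; X) ↘ X) ⁻¹ᵁ V) := nonempty_preimage V
  letI := TopCat.Presheaf.algebra_section_stalk X.presheaf ⟨x, hxV⟩
  haveI := hV.isLocalization_stalk ⟨x, hxV⟩
  obtain ⟨ϖ, hϖ⟩ := IsDiscreteValuationRing.exists_irreducible (X.presheaf.stalk x)
  obtain ⟨⟨a, t⟩, hat⟩ := IsLocalization.surj (pr hV hxV).primeCompl ϖ
  have hmax : maximalIdeal (X.presheaf.stalk x) = Ideal.span {algebraMap Γ(X, V) _ a} := by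
    rw [← hat, (IsDiscreteValuationRing.irreducible_iff_uniformizer _).1 hϖ,
      Ideal.span_singleton_mul_right_unit (IsLocalization.map_units _ t)]
  have ha : a ∈ pr hV hxV :=
    (IsLocalization.AtPrime.to_map_mem_maximal_iff (X.presheaf.stalk x) _ a).1
      (hmax ▸ Ideal.mem_span_singleton_self _)
  have hgen : Gen (pr hV hxV) a := by
    refine ⟨ha, fun q hq => ?_⟩
    have h1 : algebraMap Γ(X, V) (X.presheaf.stalk x) q ∈
        (Ideal.span {a}).map (algebraMap Γ(X, V) (X.presheaf.stalk x)) := by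
      rw [Ideal.map_span, Set.image_singleton, ← hmax]
      exact (IsLocalization.AtPrime.to_map_mem_maximal_iff (X.presheaf.stalk x) _ q).2 hq
    obtain ⟨s, hs, hsa⟩ :=
      (IsLocalization.algebraMap_mem_map_algebraMap_iff (pr hV hxV).primeCompl _ _ _).1 h1
    exact ⟨s, hs, Ideal.mem_span_singleton.1 hsa⟩
  have ha0 : a ≠ 0 := by
    rintro rfl
    rw [map_zero] at hmax
    exact (IsDiscreteValuationRing.not_a_field (X.presheaf.stalk x)) (hmax.trans Ideal.span_singleton_zero)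
  haveI := hvert.map_prime (pr hV hxV) inferInstance
  obtain ⟨y, hyU, hy⟩ := exists_point hU ((pr hV hxV).map ((𝔸(n; X) ↘ X).app V).hom)
  have hc := comap_pr hV hU (y := y) hyU
  rw [hy, hvert.comap_map] at hc
  have hyx : (𝔸(n; X) ↘ X) y = x := pr_inj hV hyU hxV hc.symm
  subst hyx
  have hga : Gen (pr hU hyU) ((𝔸(n; X) ↘ X).app V a) := by
    rw [hy]
    exact gen_map hvert _ a hgen
  have hφa : (𝔸(n; X) ↘ X).app V a ≠ 0 := fun h => ha0 (hvert.inj (h.trans (map_zero _).symm))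
  obtain ⟨hdvr, hirr, hcy⟩ := gen_point hU hyU hφa hga
  refine ⟨y, hcy, rfl, fun c hc0 => ?_⟩
  obtain ⟨-, hirra, -⟩ := gen_point hV hxV ha0 hgen
  have key : ∀ r : X.presheaf.stalk ((𝔸(n; X) ↘ X) y), r ≠ 0 →
      pull n X (sp _ r) ≠ 0 ∧
        Scheme.ord (pull n X (sp _ r)) y = Scheme.ord (sp _ r) ((𝔸(n; X) ↘ X) y) := by
    intro r hr
    obtain ⟨k, w, rfl⟩ := IsDiscreteValuationRing.eq_unit_mul_pow_irreducible hr hirra
    have hm : (𝔸(n; X) ↘ X).stalkMap y (↑w * X.presheaf.germ V _ hxV a ^ k) =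
        (𝔸(n; X) ↘ X).stalkMap y ↑w *
          𝔸(n; X).presheaf.germ _ y hyU ((𝔸(n; X) ↘ X).app V a) ^ k := by
      rw [map_mul, map_pow, Scheme.Hom.germ_stalkMap_apply]
    rw [pull_sp, hm, ord_sp_unit_pow hx hirra w.isUnit k]
    exact ⟨sp_ne_zero (mul_ne_zero (w.isUnit.map _).ne_zero (pow_ne_zero k hirr.ne_zero)),
      ord_sp_unit_pow hcy hirr (w.isUnit.map _) k⟩
  obtain ⟨r₁, r₂, hr₂, rfl⟩ :=
    IsFractionRing.div_surjective (A := X.presheaf.stalk ((𝔸(n; X) ↘ X) y)) c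
  have hr1 : r₁ ≠ 0 := by rintro rfl; simp at hc0
  have hr2 : r₂ ≠ 0 := nonZeroDivisors.ne_zero hr₂
  obtain ⟨hp1, hk1⟩ := key r₁ hr1
  obtain ⟨hp2, hk2⟩ := key r₂ hr2
  show Scheme.ord (pull n X (sp _ r₁ / sp _ r₂)) y =
    Scheme.ord (sp _ r₁ / sp _ r₂) _
  rw [map_div₀, div_eq_mul_inv, Scheme.ord_mul hp1 (inv_ne_zero hp2), ord_inv hp2, div_eq_mul_inv,
    Scheme.ord_mul (sp_ne_zero hr1) (inv_ne_zero (sp_ne_zero hr2)),
    ord_inv (sp_ne_zero hr2), hk1, hk2]

omit [IsLocallyNoetherian 𝔸(n; X)] [IsLocallyNoetherian X] in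
theorem coheight_genericPoint_ne : Order.coheight (genericPoint X) ≠ 1 := fun h => by
  have h0 : Order.coheight (genericPoint X) = 0 :=
    Order.coheight_eq_zero.2 fun z _ => (genericPoint_spec X).specializes trivial
  simp [h0] at h

end Groth.Agent.AffDiv
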