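import Groth.Agent.AffDiv.Point
import Mathlib

/-!
# Orders of vanishing along open immersions
-/

set_option autoImplicit false
set_option maxHeartbeats 1000000
set_option backward.isDefEq.respectTransparency false
set_option backward.isDefEq.respectTransparency.types false
set_option linter.style.haveILetI false

universe u

open CategoryTheory AlgebraicGeometry TopologicalSpace IsLocalRing

noncomputable section

namespace Groth.Agent.AffDiv

variable {U Y : Scheme.{u}} [IsIntegral U] [IsIntegral Y] (j : U ⟶ Y) [IsOpenImmersion j]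

theorem imm_gen_specializes : j (genericPoint U) ⤳ genericPoint Y := by
  rw [genericPoint_eq_of_isOpenImmersion j]

/-- Rational functions restricted along an open immersion. -/
def theta : Y.functionField →+* U.functionField :=
  (j.stalkMap (genericPoint U)).hom.comp (Y.presheaf.stalkSpecializes (imm_gen_specializes j)).hom

theorem theta_bijective : Function.Bijective (theta j) := by
  have h : genericPoint Y ⤳ j (genericPoint U) := (genericPoint_spec Y).specializes trivial
  refine ⟨(theta j).injective, fun z => ?_⟩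
  obtain ⟨w, rfl⟩ := (ConcreteCategory.bijective_of_isIso (j.stalkMap (genericPoint U))).2 z
  refine ⟨Y.presheaf.stalkSpecializes h w, ?_⟩
  show j.stalkMap _ (Y.presheaf.stalkSpecializes _ (Y.presheaf.stalkSpecializes _ w)) = _
  rw [TopCat.Presheaf.stalkSpecializes_comp_apply, TopCat.Presheaf.stalkSpecializes_refl]
  rfl

theorem theta_sp (x : U) (a : Y.presheaf.stalk (j x)) :
    theta j (sp _ a) = sp x (j.stalkMap x a) := by
  show j.stalkMap _ (Y.presheaf.stalkSpecializes _ (Y.presheaf.stalkSpecializes _ a)) = _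
  rw [TopCat.Presheaf.stalkSpecializes_comp_apply]
  exact Scheme.Hom.stalkSpecializes_stalkMap_apply _ _ _ _ a

theorem theta_germ (W : Y.Opens) [Nonempty W] [Nonempty (j ⁻¹ᵁ W)] (s : Γ(Y, W)) :
    theta j (Y.germToFunctionField W s) = U.germToFunctionField (j ⁻¹ᵁ W) (j.app W s) := by
  obtain ⟨⟨x, hx⟩⟩ := ‹Nonempty (j ⁻¹ᵁ W)›
  rw [← sp_germ (U := W) (x := j x) hx s, theta_sp, Scheme.Hom.germ_stalkMap_apply, sp_germ]

omit [IsIntegral U] [IsIntegral Y] in
theorem coheight_imm (x : U) : Order.coheight (j x) = Order.coheight x := by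
  have h := ringKrullDim_eq_of_ringEquiv (asIso (j.stalkMap x)).commRingCatIsoToRingEquiv
  rw [ringKrullDim_stalk_eq_coheight, ringKrullDim_stalk_eq_coheight] at h
  exact WithBot.coe_injective h

variable [IsLocallyNoetherian U] [IsLocallyNoetherian Y]

theorem ord_theta {g : Y.functionField} (hg : g ≠ 0) (x : U) :
    Scheme.ord (theta j g) x = Scheme.ord g (j x) := by
  have hc := coheight_imm j x
  by_cases hx : Order.coheight x = 1
  swap
  · rw [Scheme.ord_eq_zero_of_coheight_neq_one hx,
      Scheme.ord_eq_zero_of_coheight_neq_one (by rwa [hc])]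
  have hjx : Order.coheight (j x) = 1 := hc.trans hx
  haveI : Ring.KrullDimLE 1 (U.presheaf.stalk x) := krullDimLE_of_coheight_le hx.le
  haveI : Ring.KrullDimLE 1 (Y.presheaf.stalk (j x)) := krullDimLE_of_coheight_le hjx.le
  let e := (asIso (j.stalkMap x)).commRingCatIsoToRingEquiv
  have key : ∀ r : Y.presheaf.stalk (j x), r ≠ 0 →
      Scheme.ord (sp x (e r)) x = Scheme.ord (sp _ r) (j x) := by
    intro r hr
    have her : e r ≠ 0 := fun h => hr (e.injective (h.trans (map_zero e).symm))
    rw [Scheme.ord_eq_iff hx (sp_ne_zero her)]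
    refine Eq.trans ?_ ((Scheme.ord_eq_iff hjx (sp_ne_zero hr)).1 rfl)
    show Ring.ordFrac (U.presheaf.stalk x) (algebraMap _ U.functionField (e r)) =
      Ring.ordFrac (Y.presheaf.stalk (j x)) (algebraMap _ Y.functionField r)
    rw [Ring.ordFrac_eq_ord (U.presheaf.stalk x) her, Ring.ordFrac_eq_ord (Y.presheaf.stalk (j x)) hr,
      Ring.ordMonoidWithZeroHom_eq_ord (mem_nonZeroDivisors_of_ne_zero her),
      Ring.ordMonoidWithZeroHom_eq_ord (mem_nonZeroDivisors_of_ne_zero hr), ord_ringEquiv]
  obtain ⟨a, b, hb, rfl⟩ := IsFractionRing.div_surjective (A := Y.presheaf.stalk (j x)) g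
  have ha : a ≠ 0 := by rintro rfl; simp at hg
  have hb0 : b ≠ 0 := nonZeroDivisors.ne_zero hb
  have ha' : e a ≠ 0 := fun h => ha (e.injective (h.trans (map_zero e).symm))
  have hb' : e b ≠ 0 := fun h => hb0 (e.injective (h.trans (map_zero e).symm))
  show Scheme.ord (theta j (sp _ a / sp _ b)) x = Scheme.ord (sp _ a / sp _ b) _
  rw [map_div₀, theta_sp, theta_sp]
  show Scheme.ord (sp x (e a) / sp x (e b)) x = _
  rw [div_eq_mul_inv, Scheme.ord_mul (sp_ne_zero ha') (inv_ne_zero (sp_ne_zero hb')),
    ord_inv (sp_ne_zero hb'), div_eq_mul_inv,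
    Scheme.ord_mul (sp_ne_zero ha) (inv_ne_zero (sp_ne_zero hb0)),
    ord_inv (sp_ne_zero hb0), key a ha, key b hb0]

end Groth.Agent.AffDiv
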