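import Groth.Agent.AffDiv.Ring
import Groth.Agent.DivOrd.Finite
import Mathlib

/-!
# Codimension one points given by locally principal primes
-/

set_option autoImplicit false
set_option maxHeartbeats 1000000
set_option backward.isDefEq.respectTransparency false
set_option linter.style.haveILetI false
set_option backward.isDefEq.respectTransparency.types false

universe u

open CategoryTheory AlgebraicGeometry TopologicalSpace IsLocalRing

noncomputable section

namespace Groth.Agent.AffDiv

/-- A noetherian local ring with non-nilpotent principal maximal ideal is a DVR. -/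
theorem isDVR_of_principal {A : Type*} [CommRing A] [IsLocalRing A] [IsNoetherianRing A] (t : A)
    (ht : maximalIdeal A = Ideal.span {t}) (hnil : ¬ IsNilpotent t) :
    ∃ _ : IsDomain A, IsDiscreteValuationRing A := by
  classical
  have hrep : ∀ a : A, a ≠ 0 → ∃ (k : ℕ) (v : Aˣ), a = (v : A) * t ^ k := by
    intro a ha
    by_contra hno
    push Not at hno
    have hall : ∀ k : ℕ, a ∈ maximalIdeal A ^ k := by
      intro k
      induction k with
      | zero => rw [pow_zero, Ideal.one_eq_top]; exact Submodule.mem_top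
      | succ k ih =>
        rw [ht, Ideal.span_singleton_pow, Ideal.mem_span_singleton'] at ih ⊢
        obtain ⟨c, hc⟩ := ih
        have hc' : c ∈ maximalIdeal A := fun hu => hno k hu.unit hc.symm
        rw [ht, Ideal.mem_span_singleton'] at hc'
        obtain ⟨d, rfl⟩ := hc'
        exact ⟨d, by rw [← hc]; ring⟩
    refine ha (Ideal.mem_bot.mp ?_)
    rw [← Ideal.iInf_pow_eq_bot_of_isLocalRing (maximalIdeal A) (maximalIdeal.isMaximal A).ne_top]
    exact (Submodule.mem_iInf _).mpr hall
  have hpow : ∀ k : ℕ, t ^ k ≠ 0 := fun k h => hnil ⟨k, h⟩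
  haveI : NoZeroDivisors A := ⟨fun {a b} hab => by
    by_contra hno
    push Not at hno
    obtain ⟨k, v, rfl⟩ := hrep a hno.1
    obtain ⟨l, w, rfl⟩ := hrep b hno.2
    refine hpow (k + l) ((v * w).isUnit.mul_right_eq_zero.mp ?_)
    rw [← hab, Units.val_mul, pow_add]; ring⟩
  haveI hdom : IsDomain A := NoZeroDivisors.to_isDomain A
  have hirr : Irreducible t := by
    refine ((Ideal.span_singleton_prime (fun h => hnil (by rw [h]; exact IsNilpotent.zero))).1 ?_).irreducible
    rw [← ht]; exact (maximalIdeal.isMaximal A).isPrime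
  exact ⟨hdom, IsDiscreteValuationRing.ofHasUnitMulPowIrreducibleFactorization ⟨t, hirr, fun {x} hx => by
    obtain ⟨k, v, hv⟩ := hrep x hx
    exact ⟨k, ⟨v, by rw [hv, mul_comm]⟩⟩⟩⟩

/-- The order of an element does not change along a ring isomorphism. -/
theorem ord_ringEquiv {R S : Type*} [CommRing R] [CommRing S] (e : R ≃+* S) (a : R) :
    Ring.ord S (e a) = Ring.ord R a := by
  apply WithBot.coe_injective
  rw [Ring.ord, Ring.ord, Module.coe_length, Module.coe_length,
    Order.krullDim_eq_of_orderIso (Submodule.comapMkQRelIso _),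
    Order.krullDim_eq_of_orderIso (Submodule.comapMkQRelIso (Ideal.span {a}))]
  let f := e.idealComapOrderIso
  have h : f (Ideal.span {e a}) = Ideal.span {a} := by
    show (Ideal.span {e a}).comap e = Ideal.span {a}
    rw [← Ideal.comap_coe e, show Ideal.span {e a} = (Ideal.span {a}).map (e : R →+* S) by
      rw [Ideal.map_span, Set.image_singleton]; rfl]
    exact Ideal.comap_map_of_bijective _ e.bijective
  exact Order.krullDim_eq_of_orderIso
    { toEquiv := f.toEquiv.subtypeEquiv fun I => f.le_iff_le.symm.trans (by rw [h]; rfl)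
      map_rel_iff' := f.le_iff_le }

variable {X : Scheme.{u}} [IsIntegral X] {U : X.Opens}

/-- An element of a local ring as a rational function. -/
abbrev sp (x : X) : X.presheaf.stalk x →+* X.functionField :=
  (X.presheaf.stalkSpecializes ((genericPoint_spec X).specializes (trivial : x ∈ ⊤))).hom

theorem sp_injective (x : X) : Function.Injective (sp x) :=
  IsFractionRing.injective (X.presheaf.stalk x) X.functionField

theorem sp_ne_zero {x : X} {a : X.presheaf.stalk x} (ha : a ≠ 0) : sp x a ≠ 0 :=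
  fun h => ha (sp_injective x (h.trans (map_zero _).symm))

section

variable [IsLocallyNoetherian X]

theorem ord_one (x : X) : Scheme.ord (1 : X.functionField) x = 0 := by
  have h := Scheme.ord_mul (x := x) (one_ne_zero (α := X.functionField)) one_ne_zero
  rw [one_mul] at h
  omega

theorem ord_inv {φ : X.functionField} (h : φ ≠ 0) (x : X) : Scheme.ord φ⁻¹ x = - Scheme.ord φ x := by
  have h1 := Scheme.ord_mul (x := x) h (inv_ne_zero h)
  rw [mul_inv_cancel₀ h, ord_one] at h1
  omega

theorem ord_sp_isUnit {x : X} (hx : Order.coheight x = 1) {a : X.presheaf.stalk x} (ha : IsUnit a) :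
    Scheme.ord (sp x a) x = 0 := by
  haveI : Ring.KrullDimLE 1 (X.presheaf.stalk x) := krullDimLE_of_coheight_le hx.le
  exact (Scheme.ord_eq_iff hx (sp_ne_zero ha.ne_zero)).2
    ((Ring.ordFrac_of_isUnit (R := X.presheaf.stalk x) (K := X.functionField) ha).trans rfl)

end

/-- The prime of an affine open at one of its points. -/
abbrev pr (hU : IsAffineOpen U) {x : X} (hx : x ∈ U) : Ideal Γ(X, U) :=
  (hU.primeIdealOf ⟨x, hx⟩).asIdeal

omit [IsIntegral X] in
theorem mem_pr_iff (hU : IsAffineOpen U) {x : X} (hx : x ∈ U) (q : Γ(X, U)) :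
    q ∈ pr hU hx ↔ ¬ IsUnit (X.presheaf.germ U x hx q) := by
  letI := TopCat.Presheaf.algebra_section_stalk X.presheaf ⟨x, hx⟩
  haveI := hU.isLocalization_stalk ⟨x, hx⟩
  rw [← mem_nonunits_iff, ← mem_maximalIdeal]
  exact (IsLocalization.AtPrime.to_map_mem_maximal_iff (X.presheaf.stalk x) _ q).symm

omit [IsIntegral X] in
theorem exists_point (hU : IsAffineOpen U) (P : Ideal Γ(X, U)) [P.IsPrime] :
    ∃ (x : X) (hx : x ∈ U), pr hU hx = P := by
  have hx : hU.fromSpec ⟨P, inferInstance⟩ ∈ U := by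
    rw [← SetLike.mem_coe, ← hU.range_fromSpec]
    exact ⟨_, rfl⟩
  refine ⟨_, hx, ?_⟩
  show (hU.primeIdealOf ⟨_, hx⟩).asIdeal = (⟨P, inferInstance⟩ : PrimeSpectrum Γ(X, U)).asIdeal
  rw [hU.fromSpec.isOpenEmbedding.injective (hU.fromSpec_primeIdealOf ⟨_, hx⟩)]

omit [IsIntegral X] in
theorem pr_inj (hU : IsAffineOpen U) {x y : X} (hx : x ∈ U) (hy : y ∈ U) (h : pr hU hx = pr hU hy) :
    x = y := by
  have h1 := hU.fromSpec_primeIdealOf ⟨x, hx⟩
  have h2 := hU.fromSpec_primeIdealOf ⟨y, hy⟩
  rw [PrimeSpectrum.ext h] at h1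
  exact h1.symm.trans h2

omit [IsIntegral X] in
theorem height_pr (hU : IsAffineOpen U) {x : X} (hx : x ∈ U) :
    ((pr hU hx).height : WithBot ℕ∞) = Order.coheight x := by
  letI := TopCat.Presheaf.algebra_section_stalk X.presheaf ⟨x, hx⟩
  haveI := hU.isLocalization_stalk ⟨x, hx⟩
  rw [← IsLocalization.AtPrime.ringKrullDim_eq_height (pr hU hx) (X.presheaf.stalk x),
    ringKrullDim_stalk_eq_coheight]

theorem pr_ne_bot (hU : IsAffineOpen U) {x : X} (hx : x ∈ U) (hc : Order.coheight x = 1) :
    pr hU hx ≠ ⊥ := fun h => by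
  haveI : Nonempty U := ⟨⟨x, hx⟩⟩
  have h1 := height_pr hU hx
  rw [h, hc, Ideal.height_bot] at h1
  exact absurd h1 (by simp)

theorem minNZ_pr (hU : IsAffineOpen U) {x : X} (hx : x ∈ U) (hc : Order.coheight x = 1) :
    MinNZ (pr hU hx) := by
  haveI : Nonempty U := ⟨⟨x, hx⟩⟩
  refine minNZ_of_height_one _ ?_
  have h1 := height_pr hU hx
  rw [hc] at h1
  exact WithBot.coe_injective h1

theorem coheight_of_minNZ (hU : IsAffineOpen U) {x : X} (hx : x ∈ U) (h0 : pr hU hx ≠ ⊥)
    (hP : MinNZ (pr hU hx)) : Order.coheight x = 1 := by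
  haveI : Nonempty U := ⟨⟨x, hx⟩⟩
  have hle := height_le_one_of_minNZ _ hP
  have hpos : 1 ≤ (pr hU hx).height := by
    rw [Order.one_le_iff_ne_zero]
    exact fun h => h0 (Ideal.height_eq_zero_iff_eq_bot.1 h)
  have h1 := height_pr hU hx
  rw [le_antisymm hle hpos] at h1
  exact (WithBot.coe_injective h1).symm

variable [IsLocallyNoetherian X]

theorem germ_ne_zero {x : X} (hx : x ∈ U) {q : Γ(X, U)} (hq : q ≠ 0) : X.presheaf.germ U x hx q ≠ 0 :=
  (map_ne_zero_iff _ (germ_injective_of_isIntegral _ _ hx)).2 hq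

omit [IsLocallyNoetherian X] in
theorem sp_germ [Nonempty U] {x : X} (hx : x ∈ U) (q : Γ(X, U)) :
    sp x (X.presheaf.germ U x hx q) = X.germToFunctionField U q :=
  Scheme.algebraMap_germ_eq_germToFunctionField X hx q

theorem ord_sp_unit_pow {x : X} (hc : Order.coheight x = 1) [IsDiscreteValuationRing (X.presheaf.stalk x)]
    {ϖ : X.presheaf.stalk x} (hϖ : Irreducible ϖ) {w : X.presheaf.stalk x} (hw : IsUnit w) (k : ℕ) :
    Scheme.ord (sp x (w * ϖ ^ k)) x = k := by
  haveI : Ring.KrullDimLE 1 (X.presheaf.stalk x) := krullDimLE_of_coheight_le hc.le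
  have h0 : sp x ϖ ≠ 0 := sp_ne_zero hϖ.ne_zero
  have h1 : Scheme.ord (sp x ϖ) x = 1 := (Scheme.ord_eq_iff hc h0).2 (Ring.ordFrac_irreducible hϖ)
  induction k with
  | zero => rw [pow_zero, mul_one, ord_sp_isUnit hc hw]; rfl
  | succ k ih =>
    rw [pow_succ, ← mul_assoc, map_mul,
      Scheme.ord_mul (sp_ne_zero (mul_ne_zero hw.ne_zero (pow_ne_zero k hϖ.ne_zero))) h0, ih, h1]
    push_cast
    rfl

/-- A locally principal nonzero prime gives a codimension one point with a discrete valuation ring. -/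
theorem gen_point (hU : IsAffineOpen U) {x : X} (hx : x ∈ U) {b : Γ(X, U)} (hb : b ≠ 0)
    (hg : Gen (pr hU hx) b) :
    IsDiscreteValuationRing (X.presheaf.stalk x) ∧ Irreducible (X.presheaf.germ U x hx b) ∧
      Order.coheight x = 1 := by
  letI := TopCat.Presheaf.algebra_section_stalk X.presheaf ⟨x, hx⟩
  haveI := hU.isLocalization_stalk ⟨x, hx⟩
  set f : Γ(X, U) →+* X.presheaf.stalk x := algebraMap _ _
  have hf0 : f b ≠ 0 := germ_ne_zero hx hb
  have hmax : maximalIdeal (X.presheaf.stalk x) = Ideal.span {f b} := by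
    rw [← IsLocalization.AtPrime.map_eq_maximalIdeal (pr hU hx) (X.presheaf.stalk x)]
    refine le_antisymm (Ideal.map_le_iff_le_comap.2 fun q hq => ?_) ?_
    · obtain ⟨s, hs, hd⟩ := hg.2 q hq
      rw [Ideal.mem_comap, Ideal.mem_span_singleton]
      have h := map_dvd f hd
      rw [map_mul] at h
      exact (IsUnit.dvd_mul_left (IsLocalization.map_units _ (⟨s, hs⟩ : (pr hU hx).primeCompl))).1 h
    · rw [Ideal.span_le, Set.singleton_subset_iff]
      exact Ideal.mem_map_of_mem _ hg.1
  obtain ⟨_, hdvr⟩ := isDVR_of_principal _ hmax (fun h => hf0 h.eq_zero)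
  refine ⟨hdvr, (IsDiscreteValuationRing.irreducible_iff_uniformizer _).2 hmax, ?_⟩
  have h1 := ringKrullDim_stalk_eq_coheight x
  rw [IsDiscreteValuationRing.ringKrullDim_eq_one] at h1
  exact (WithBot.coe_injective h1).symm

/-- Order of a section outside the prime. -/
theorem ord_not_mem [Nonempty U] (hU : IsAffineOpen U) {x : X} (hx : x ∈ U) (hc : Order.coheight x = 1)
    {q : Γ(X, U)} (hq : q ∉ pr hU hx) : Scheme.ord (X.germToFunctionField U q) x = 0 := by
  rw [mem_pr_iff, not_not] at hq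
  rw [← sp_germ hx q]
  exact ord_sp_isUnit hc hq

/-- Order of a nonzero section inside the prime. -/
theorem ord_mem_pos [Nonempty U] (hU : IsAffineOpen U) {x : X} (hx : x ∈ U) {b : Γ(X, U)} (hb : b ≠ 0)
    (hg : Gen (pr hU hx) b) {q : Γ(X, U)} (hq0 : q ≠ 0) (hq : q ∈ pr hU hx) :
    0 < Scheme.ord (X.germToFunctionField U q) x := by
  obtain ⟨hdvr, hirr, hc⟩ := gen_point hU hx hb hg
  obtain ⟨k, w, hk⟩ := IsDiscreteValuationRing.eq_unit_mul_pow_irreducible (germ_ne_zero hx hq0) hirr
  rw [← sp_germ hx q, hk, ord_sp_unit_pow hc hirr w.isUnit k]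
  rw [mem_pr_iff, hk] at hq
  rcases k with _ | k
  · exact absurd (by rw [pow_zero, mul_one]; exact w.isUnit) hq
  · push_cast; omega

/-- Order of the generator. -/
theorem ord_gen [Nonempty U] (hU : IsAffineOpen U) {x : X} (hx : x ∈ U) {b : Γ(X, U)} (hb : b ≠ 0)
    (hg : Gen (pr hU hx) b) : Scheme.ord (X.germToFunctionField U b) x = 1 := by
  obtain ⟨hdvr, hirr, hc⟩ := gen_point hU hx hb hg
  have h := ord_sp_unit_pow hc hirr isUnit_one 1
  rw [pow_one, one_mul] at h
  rw [← sp_germ hx b]
  exact h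

theorem ord_zpow {φ : X.functionField} (h : φ ≠ 0) (x : X) (n : ℤ) :
    Scheme.ord (φ ^ n) x = n * Scheme.ord φ x := by
  have hnat : ∀ k : ℕ, Scheme.ord (φ ^ k) x = k * Scheme.ord φ x := fun k => by
    induction k with
    | zero => rw [pow_zero, ord_one]; simp
    | succ k ih => rw [pow_succ, Scheme.ord_mul (pow_ne_zero k h) h, ih]; push_cast; ring
  cases n with
  | ofNat k => rw [Int.ofNat_eq_natCast, zpow_natCast, hnat]
  | negSucc k =>
    rw [zpow_negSucc, ord_inv (pow_ne_zero _ h), hnat, Int.negSucc_eq]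
    push_cast
    ring

theorem ord_prod {ι : Type*} (s : Finset ι) (φ : ι → X.functionField) (h : ∀ i ∈ s, φ i ≠ 0) (x : X) :
    Scheme.ord (∏ i ∈ s, φ i) x = ∑ i ∈ s, Scheme.ord (φ i) x := by
  classical
  induction s using Finset.induction_on with
  | empty => rw [Finset.prod_empty, Finset.sum_empty, ord_one]
  | insert a s ha ih =>
    rw [Finset.prod_insert ha, Finset.sum_insert ha,
      Scheme.ord_mul (h a (Finset.mem_insert_self a s))
        (Finset.prod_ne_zero_iff.2 fun i hi => h i (Finset.mem_insert_of_mem hi)),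
      ih fun i hi => h i (Finset.mem_insert_of_mem hi)]

/-- The divisor of a rational function on a noetherian scheme is finite. -/
theorem finite_div [IsNoetherian X] (φ : X.functionField) (hφ : φ ≠ 0) :
    {x : X | Order.coheight x = 1 ∧ Scheme.ord φ x ≠ 0}.Finite := by
  let 𝒰 := X.affineCover.finiteSubcover
  refine (Set.finite_iUnion fun i : 𝒰.I₀ => DivOrd.finite_ord_ne_zero (𝒰.f i).opensRange
    (isAffineOpen_opensRange (𝒰.f i)) φ hφ).subset ?_
  intro x hx
  exact Set.mem_iUnion.2 ⟨𝒰.idx x, 𝒰.covers x, hx⟩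

end Groth.Agent.AffDiv
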