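import Groth.Agent.AffDiv.Const
import Groth.Agent.AffDiv.OpenImm
import Groth.Agent.AffDiv.ProjChart
import Mathlib

/-!
# Divisors supported on fibres and the hyperplane at infinity
-/

set_option autoImplicit false
set_option maxHeartbeats 1000000
set_option backward.isDefEq.respectTransparency false
set_option backward.isDefEq.respectTransparency.types false
set_option linter.style.haveILetI false

universe u

open CategoryTheory CategoryTheory.Limits AlgebraicGeometry TopologicalSpace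

noncomputable section

namespace Groth.Agent.AffDiv

theorem germ_app_congr {U S : Scheme.{u}} [IsIntegral U] {p p' : U ⟶ S} (e : p = p') (V : S.Opens)
    [Nonempty (p ⁻¹ᵁ V)] [Nonempty (p' ⁻¹ᵁ V)] (a : Γ(S, V)) :
    U.germToFunctionField (p ⁻¹ᵁ V) (p.app V a) = U.germToFunctionField (p' ⁻¹ᵁ V) (p'.app V a) := by
  subst e; rfl

theorem isUnit_germ_gen {S : Scheme.{u}} [IsIntegral S] {V : S.Opens} [Nonempty V] {x : S}
    (hx : x = genericPoint S) (hxV : x ∈ V) {a : Γ(S, V)} (ha : a ≠ 0) :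
    IsUnit (S.presheaf.germ V x hxV a) := by
  subst hx
  exact isUnit_iff_ne_zero.2 ((map_ne_zero_iff _ (S.germToFunctionField_injective V)).2 ha)

variable {A : Type u} [CommRing A] [IsDomain A] [IsNoetherianRing A] {n : ℕ} (hn : 1 ≤ n)
  [IsIntegral (CohB1.ProjSpace n A)] [IsLocallyNoetherian (CohB1.ProjSpace n A)]
  [IsIntegral (Spec (CommRingCat.of A))]
  (hR1 : ∀ x : ↥(Spec (CommRingCat.of A)), Order.coheight x = 1 →
    IsDiscreteValuationRing ↑((Spec (CommRingCat.of A)).presheaf.stalk x))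
  (H : ↥(CohB1.ProjSpace n A))
  (hH : H.asHomogeneousIdeal.toIdeal = Ideal.span {(MvPolynomial.X 0 : MvPolynomial (Fin (n + 1)) A)})

include hn hR1 hH

/-- A rational function whose divisor off the hyperplane at infinity comes from the base has order zero
along the hyperplane and the divisor is principal on the base. -/
theorem ord_infty (D : ↥(Spec (CommRingCat.of A)) → ℤ) (hD : ∀ x, Order.coheight x ≠ 1 → D x = 0)
    (g : (CohB1.ProjSpace n A).functionField) (hg : g ≠ 0)
    (h : ∀ y, y ≠ H → Order.coheight y = 1 → Scheme.ord g y = D (CohB1.ProjSpace.toSpec n A y)) :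
    Scheme.ord g H = 0 ∧ ∃ f : (Spec (CommRingCat.of A)).functionField, f ≠ 0 ∧
      ∀ x : ↥(Spec (CommRingCat.of A)), Order.coheight x = 1 → Scheme.ord f x = D x := by
  classical
  set q := CohB1.ProjSpace.toSpec n A
  obtain ⟨j, hjimm, hjq, hjr⟩ := exists_chart_imm A n
  haveI := hjimm
  haveI : IsLocallyNoetherian 𝔸(ULift.{u} (Fin n); (Spec (CommRingCat.of A))) :=
    LocallyOfFiniteType.isLocallyNoetherian (𝔸(ULift.{u} (Fin n); (Spec (CommRingCat.of A))) ↘ (Spec (CommRingCat.of A)))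
  have hne : ∀ z, j z ≠ H := fun z hz => notMem_chart H hH (hjr.le ⟨z, hz⟩)
  have hqj : ∀ z, q (j z) = (𝔸(ULift.{u} (Fin n); (Spec (CommRingCat.of A))) ↘ (Spec (CommRingCat.of A))) z := fun z => by
    rw [← hjq]; rfl
  have hg' : theta j g ≠ 0 := (map_ne_zero (theta j)).2 hg
  have hord : ∀ z, Order.coheight z = 1 → Scheme.ord (theta j g) z = D ((𝔸(ULift.{u} (Fin n); (Spec (CommRingCat.of A))) ↘ (Spec (CommRingCat.of A))) z) :=
    fun z hz => by rw [ord_theta j hg z, h _ (hne z) ((coheight_imm j z).trans hz), hqj]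
  obtain ⟨f, hf, hpull⟩ := exists_const hg' fun z hz hzη => by
    rw [hord z hz, hzη]
    exact hD _ coheight_genericPoint_ne
  refine ⟨?_, f, hf, fun x hx => ?_⟩
  swap
  · obtain ⟨z, hz, hzx, hzord⟩ := exists_vert (n := ULift.{u} (Fin n)) hx (hR1 x hx)
    rw [← hzord f hf, hpull, hord z hz, hzx]
  by_cases hcH : Order.coheight H = 1
  swap
  · exact Scheme.ord_eq_zero_of_coheight_neq_one hcH g
  haveI : Nonempty (⊤ : (Spec (CommRingCat.of A)).Opens) := ⟨⟨genericPoint (Spec (CommRingCat.of A)), trivial⟩⟩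
  haveI := functionField_isFractionRing_of_isAffineOpen (Spec (CommRingCat.of A)) ⊤ (isAffineOpen_top (Spec (CommRingCat.of A)))
  obtain ⟨a, b, hb, hab⟩ := IsFractionRing.div_surjective (A := Γ((Spec (CommRingCat.of A)), ⊤)) f
  have hb0 : b ≠ 0 := nonZeroDivisors.ne_zero hb
  have ha0 : a ≠ 0 := by
    rintro rfl
    rw [map_zero, zero_div] at hab
    exact hf hab.symm
  haveI : Nonempty (q ⁻¹ᵁ (⊤ : (Spec (CommRingCat.of A)).Opens)) := ⟨⟨H, trivial⟩⟩
  haveI : Nonempty ((𝔸(ULift.{u} (Fin n); (Spec (CommRingCat.of A))) ↘ (Spec (CommRingCat.of A))) ⁻¹ᵁ (⊤ : (Spec (CommRingCat.of A)).Opens)) := nonempty_preimage ⊤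
  haveI : Nonempty (j ⁻¹ᵁ q ⁻¹ᵁ (⊤ : (Spec (CommRingCat.of A)).Opens)) := ⟨⟨genericPoint 𝔸(ULift.{u} (Fin n); (Spec (CommRingCat.of A))), trivial⟩⟩
  haveI : Nonempty ((j ≫ q) ⁻¹ᵁ (⊤ : (Spec (CommRingCat.of A)).Opens)) := ⟨⟨genericPoint 𝔸(ULift.{u} (Fin n); (Spec (CommRingCat.of A))), trivial⟩⟩
  let G : Γ((Spec (CommRingCat.of A)), ⊤) → (CohB1.ProjSpace n A).functionField := fun c =>
    (CohB1.ProjSpace n A).germToFunctionField (q ⁻¹ᵁ ⊤) (q.app ⊤ c)
  have hθ : ∀ c, theta j (G c) = pull (ULift.{u} (Fin n)) (Spec (CommRingCat.of A)) ((Spec (CommRingCat.of A)).germToFunctionField ⊤ c) := fun c => by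
    rw [pull_germ, ← germ_app_congr hjq ⊤ c, theta_germ]
    rfl
  have hunit : ∀ c : Γ((Spec (CommRingCat.of A)), ⊤), c ≠ 0 → G c ≠ 0 ∧ Scheme.ord (G c) H = 0 := fun c hc => by
    have hu : IsUnit (q.stalkMap H ((Spec (CommRingCat.of A)).presheaf.germ ⊤ (q H) trivial c)) :=
      (isUnit_germ_gen (V := (⊤ : Scheme.Opens (Spec (CommRingCat.of A)))) (toSpec_hyperplane hn H hH) trivial hc).map _
    have hG : G c = sp H (q.stalkMap H ((Spec (CommRingCat.of A)).presheaf.germ ⊤ (q H) trivial c)) := by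
      rw [Scheme.Hom.germ_stalkMap_apply, sp_germ]
    rw [hG]
    exact ⟨sp_ne_zero hu.ne_zero, ord_sp_isUnit hcH hu⟩
  have hgG : g = G a / G b := (theta j).injective (by
    rw [map_div₀, hθ, hθ, ← map_div₀, ← hpull, ← hab]
    rfl)
  rw [hgG, div_eq_mul_inv, Scheme.ord_mul (hunit a ha0).1 (inv_ne_zero (hunit b hb0).1),
    ord_inv (hunit b hb0).1, (hunit a ha0).2, (hunit b hb0).2]
  rfl

omit hR1 [IsLocallyNoetherian (CohB1.ProjSpace n A)] in
/-- The only codimension one point outside the standard chart is the hyperplane at infinity. -/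
theorem mem_chart_of_ne {y : ↥(CohB1.ProjSpace n A)} (hy : y ≠ H) (hc : Order.coheight y = 1) :
    y ∈ D0 A n := by
  by_contra hn'
  rcases DivOrd.eq_or_eq_genericPoint hc (specializes_of_notMem H hH hn') with h | h
  · exact hy h.symm
  · obtain ⟨j, hjimm, -, hjr⟩ := exists_chart_imm A n
    haveI := hjimm
    refine notMem_chart H hH ?_
    rw [h]
    exact (((genericPoint_spec (CohB1.ProjSpace n A)).mem_open_set_iff (D0 A n).isOpen).2
      ⟨_, trivial, hjr.le ⟨genericPoint 𝔸(ULift.{u} (Fin n); Spec (CommRingCat.of A)), rfl⟩⟩)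

end Groth.Agent.AffDiv
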