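import Mathlib

/-!
# Height one primes of polynomial extensions: vertical and horizontal primes

`φ : A →+* B` models `A → A[X₁, …, Xₘ]`, and a ring homomorphism `ψ : B →+* K[X₁, …, Xₘ]` its generic fibre.
-/

set_option autoImplicit false
set_option maxHeartbeats 1000000

universe u

open scoped nonZeroDivisors

namespace Groth.Agent.AffDiv

variable {A B : Type u} [CommRing A] [CommRing B]

/-- `b` generates `P` locally at `P`. -/
def Gen (P : Ideal B) (b : B) : Prop :=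
  b ∈ P ∧ ∀ q ∈ P, ∃ s ∉ P, b ∣ s * q

/-- `P` is a minimal nonzero prime. -/
def MinNZ (P : Ideal B) : Prop :=
  ∀ Q : Ideal B, Q.IsPrime → Q ≤ P → Q ≠ ⊥ → Q = P

theorem minNZ_of_height_one [IsDomain B] (P : Ideal B) [P.IsPrime] (hP : P.height = 1) : MinNZ P := by
  intro Q hQ hle hQ0
  by_contra hne
  have : P.FiniteHeight := by simp [P.finiteHeight_iff, hP]
  have hlt := Ideal.height_strict_mono_of_isPrime_of_isPrime (lt_of_le_of_ne hle hne)
  rw [hP, Order.lt_one_iff, Ideal.height_eq_zero_iff_eq_bot] at hlt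
  exact hQ0 hlt

theorem height_le_one_of_minNZ [IsDomain B] (P : Ideal B) [P.IsPrime] (hP : MinNZ P) : P.height ≤ 1 := by
  rw [← Nat.cast_one, Ideal.height_le_iff]
  intro q hq hlt
  by_contra hq0
  have hq0 : q ≠ ⊥ := fun h => hq0 (by rw [h, Ideal.height_bot]; exact zero_lt_one)
  exact hlt.ne (hP q hq hlt.le hq0)

/-- The extension of primes along a polynomial extension. -/
structure IsVert (φ : A →+* B) : Prop where
  inj : Function.Injective φ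
  map_prime : ∀ p : Ideal A, p.IsPrime → (p.map φ).IsPrime
  comap_map : ∀ p : Ideal A, (p.map φ).comap φ = p

theorem gen_map {φ : A →+* B} (hφ : IsVert φ) (p : Ideal A) [p.IsPrime] (a : A) (hg : Gen p a) :
    Gen (p.map φ) (φ a) := by
  haveI := hφ.map_prime p inferInstance
  have hnot : ∀ s : A, s ∉ p → φ s ∉ p.map φ := fun s hs h => hs (by rw [← hφ.comap_map p]; exact h)
  refine ⟨Ideal.mem_map_of_mem φ hg.1, fun q hq => ?_⟩
  induction hq using Submodule.span_induction with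
  | zero => exact ⟨1, fun h => (Ideal.IsPrime.ne_top ‹(p.map φ).IsPrime›) ((Ideal.eq_top_iff_one _).2 h), by simp⟩
  | add x y _ _ hx hy =>
    obtain ⟨s, hs, hsx⟩ := hx
    obtain ⟨s', hs', hsy⟩ := hy
    exact ⟨s * s', fun h => (Ideal.IsPrime.mem_or_mem ‹_› h).elim hs hs', by
      rw [mul_add]
      exact dvd_add (by rw [mul_right_comm]; exact dvd_mul_of_dvd_left hsx _)
        (by rw [mul_assoc]; exact dvd_mul_of_dvd_right hsy _)⟩
  | smul c x _ hx =>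
    obtain ⟨s, hs, hsx⟩ := hx
    exact ⟨s, hs, by rw [smul_eq_mul, mul_left_comm]; exact dvd_mul_of_dvd_right hsx _⟩
  | mem x hx =>
    obtain ⟨c, hc, rfl⟩ := hx
    obtain ⟨s, hs, hd⟩ := hg.2 c hc
    exact ⟨φ s, hnot s hs, by rw [← map_mul]; exact map_dvd φ hd⟩

theorem vert_of_minNZ [IsDomain A] [IsDomain B] {φ : A →+* B} (hφ : IsVert φ) (P : Ideal B) [P.IsPrime]
    (hP : MinNZ P) (h0 : P.comap φ ≠ ⊥) :
    P = (P.comap φ).map φ ∧ MinNZ (P.comap φ) := by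
  have key : ∀ q : Ideal A, q.IsPrime → q ≤ P.comap φ → q ≠ ⊥ → q.map φ = P := by
    intro q hq hle hq0
    refine hP _ (hφ.map_prime q hq) (Ideal.map_le_iff_le_comap.2 hle) fun h => hq0 ?_
    exact (Ideal.map_eq_bot_iff_of_injective hφ.inj).1 h
  refine ⟨(key _ inferInstance le_rfl h0).symm, fun q hq hle hq0 => ?_⟩
  rw [← hφ.comap_map q, key q hq hle hq0]

/-- The generic fibre of a polynomial extension. -/
structure IsHor (φ : A →+* B) {D : Type u} [CommRing D] (ψ : B →+* D) : Prop where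
  inj : Function.Injective ψ
  isUnit : ∀ a : A, a ≠ 0 → IsUnit (ψ (φ a))
  surj : ∀ r : D, ∃ a : A, a ≠ 0 ∧ ∃ b : B, ψ b = r * ψ (φ a)
  units : ∀ w : D, IsUnit w → ∃ a a' : A, a ≠ 0 ∧ a' ≠ 0 ∧ w * ψ (φ a') = ψ (φ a)

variable {D : Type u} [CommRing D] {φ : A →+* B} {ψ : B →+* D}

/-- The prime of `B` defined by a prime element of the generic fibre. -/
abbrev horPrime (ψ : B →+* D) (π : D) : Ideal B :=
  (Ideal.span {π}).comap ψ

theorem horPrime_spec (hψ : IsHor φ ψ) {π : D} (hπ : Prime π) :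
    (horPrime ψ π).IsPrime ∧ (horPrime ψ π).comap φ = ⊥ ∧
      ∃ b : B, b ≠ 0 ∧ Gen (horPrime ψ π) b ∧ (∀ q ∈ horPrime ψ π, ∃ a : A, a ≠ 0 ∧ b ∣ φ a * q) ∧
        ∃ u : D, IsUnit u ∧ ψ b = π * u := by
  haveI : (Ideal.span {π}).IsPrime := (Ideal.span_singleton_prime hπ.ne_zero).2 hπ
  have h0 : (horPrime ψ π).comap φ = ⊥ := by
    refine (Submodule.eq_bot_iff _).2 fun a ha => ?_
    by_contra ha0
    exact hπ.not_unit (isUnit_of_dvd_unit (Ideal.mem_span_singleton.1 ha) (hψ.isUnit a ha0))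
  have hnot : ∀ a : A, a ≠ 0 → φ a ∉ horPrime ψ π := fun a ha h => ha (by
    have : a ∈ (horPrime ψ π).comap φ := h
    rwa [h0, Ideal.mem_bot] at this)
  obtain ⟨a, ha, b, hb⟩ := hψ.surj π
  have hdvd : ∀ q ∈ horPrime ψ π, ∃ a : A, a ≠ 0 ∧ φ a ∉ horPrime ψ π ∧ b ∣ φ a * q := by
    intro q hq
    obtain ⟨r, hr⟩ := Ideal.mem_span_singleton.1 (Ideal.mem_comap.1 hq)
    obtain ⟨a', ha', r', hr'⟩ := hψ.surj r
    have hne : a * a' ≠ 0 := by
      intro h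
      have h1 : IsUnit (ψ (φ (a * a'))) := by
        rw [map_mul, map_mul]; exact (hψ.isUnit a ha).mul (hψ.isUnit a' ha')
      rw [h, map_zero, map_zero] at h1
      exact hπ.not_unit (isUnit_of_dvd_unit (dvd_zero π) h1)
    refine ⟨a * a', hne, hnot _ hne, r', hψ.inj ?_⟩
    rw [map_mul, map_mul, map_mul, map_mul, hb, hr', hr]
    ring
  refine ⟨inferInstance, h0, b, ?_, ⟨?_, fun q hq => ?_⟩, fun q hq => ?_, _, hψ.isUnit a ha, hb⟩
  · rintro rfl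
    rw [map_zero] at hb
    exact hπ.ne_zero ((hψ.isUnit a ha).mul_left_eq_zero.1 hb.symm)
  · exact Ideal.mem_comap.2 (Ideal.mem_span_singleton.2 ⟨_, hb⟩)
  · obtain ⟨a, -, ha, hd⟩ := hdvd q hq
    exact ⟨φ a, ha, hd⟩
  · obtain ⟨a, ha, -, hd⟩ := hdvd q hq
    exact ⟨a, ha, hd⟩

variable [IsDomain A] [IsDomain B] [IsDomain D] [UniqueFactorizationMonoid D]

/-- A horizontal height one prime has a generator that lies in no other one. -/
theorem hor_gen (hψ : IsHor φ ψ) (P : Ideal B) [P.IsPrime] (hP : MinNZ P) (hP0 : P ≠ ⊥)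
    (h0 : P.comap φ = ⊥) :
    ∃ b : B, b ≠ 0 ∧ Gen P b ∧
      ∀ P' : Ideal B, P'.IsPrime → MinNZ P' → P'.comap φ = ⊥ → b ∈ P' → P' = P := by
  have hnot : ∀ (Q : Ideal B), Q.comap φ = ⊥ → ∀ a : A, a ≠ 0 → φ a ∉ Q := fun Q hQ a ha h => ha (by
    have : a ∈ Q.comap φ := h
    rwa [hQ, Ideal.mem_bot] at this)
  let J : Ideal D := P.map ψ
  have hJmem : ∀ y ∈ J, ∃ a : A, a ≠ 0 ∧ ∃ q ∈ P, ψ q = y * ψ (φ a) := by
    intro y hy
    induction hy using Submodule.span_induction with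
    | zero => exact ⟨1, one_ne_zero, 0, zero_mem _, by simp⟩
    | mem x hx =>
      obtain ⟨q, hq, rfl⟩ := hx
      exact ⟨1, one_ne_zero, q, hq, by simp⟩
    | add x y _ _ hx hy =>
      obtain ⟨a, ha, q, hq, hx⟩ := hx
      obtain ⟨a', ha', q', hq', hy⟩ := hy
      refine ⟨a * a', mul_ne_zero ha ha', q * φ a' + q' * φ a,
        add_mem (P.mul_mem_right _ hq) (P.mul_mem_right _ hq'), ?_⟩
      rw [map_add, map_mul, map_mul, map_mul, map_mul, hx, hy]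
      ring
    | smul c x _ hx =>
      obtain ⟨a, ha, q, hq, hx⟩ := hx
      obtain ⟨a', ha', c', hc'⟩ := hψ.surj c
      refine ⟨a * a', mul_ne_zero ha ha', c' * q, P.mul_mem_left _ hq, ?_⟩
      rw [map_mul, map_mul, map_mul, hc', hx, smul_eq_mul]
      ring
  have hJP : ∀ b : B, ψ b ∈ J → b ∈ P := by
    intro b hb
    obtain ⟨a, ha, q, hq, h⟩ := hJmem _ hb
    rw [← map_mul] at h
    rw [hψ.inj h] at hq
    exact (Ideal.IsPrime.mem_or_mem ‹_› hq).resolve_right (hnot P h0 a ha)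
  haveI hJ : J.IsPrime := by
    refine ⟨fun h => Ideal.IsPrime.ne_top ‹P.IsPrime›
      ((Ideal.eq_top_iff_one _).2 (hJP 1 (by rw [h]; trivial))), fun {x y} hxy => ?_⟩
    obtain ⟨a, ha, x', hx'⟩ := hψ.surj x
    obtain ⟨a', ha', y', hy'⟩ := hψ.surj y
    have : x' * y' ∈ P := hJP _ (by
      rw [map_mul, hx', hy', show x * ψ (φ a) * (y * ψ (φ a')) = (x * y) * (ψ (φ a) * ψ (φ a')) by ring]
      exact J.mul_mem_right _ hxy)
    rcases Ideal.IsPrime.mem_or_mem ‹_› this with h | h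
    · exact Or.inl ((J.mul_unit_mem_iff_mem (hψ.isUnit a ha)).1 (hx' ▸ Ideal.mem_map_of_mem ψ h))
    · exact Or.inr ((J.mul_unit_mem_iff_mem (hψ.isUnit a' ha')).1 (hy' ▸ Ideal.mem_map_of_mem ψ h))
  obtain ⟨π, hπJ, hπ⟩ := Ideal.IsPrime.exists_mem_prime_of_ne_bot hJ
    (fun h => hP0 ((Ideal.map_eq_bot_iff_of_injective hψ.inj).1 h))
  obtain ⟨hpr, -, b, hb0, hgen, hdvd, -⟩ := horPrime_spec hψ hπ
  have hle : horPrime ψ π ≤ P := fun q hq => hJP q (by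
    obtain ⟨r, hr⟩ := Ideal.mem_span_singleton.1 (Ideal.mem_comap.1 hq)
    rw [hr]
    exact J.mul_mem_right _ hπJ)
  have heq : horPrime ψ π = P := hP _ hpr hle fun h => hb0 (by
    have := hgen.1
    rwa [h, Ideal.mem_bot] at this)
  refine ⟨b, hb0, heq ▸ hgen, fun P' hP' hmin h0' hb => (hmin P inferInstance (fun q hq => ?_) hP0).symm⟩
  obtain ⟨a, ha, c, hc⟩ := hdvd q (heq.symm ▸ hq)
  exact (hP'.mem_or_mem (hc ▸ P'.mul_mem_right c hb)).resolve_left (hnot P' h0' a ha)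

/-- A ratio is either constant on the generic fibre or has a horizontal zero or pole. -/
theorem ratio_cases (hψ : IsHor φ ψ) (q₁ q₂ : B) (h₁ : q₁ ≠ 0) (h₂ : q₂ ≠ 0) :
    (∃ a a' : A, a ≠ 0 ∧ a' ≠ 0 ∧ q₁ * φ a' = q₂ * φ a) ∨
      ∃ (P : Ideal B) (b r₁ r₂ : B), P.IsPrime ∧ P.comap φ = ⊥ ∧ b ≠ 0 ∧ Gen P b ∧ r₁ ≠ 0 ∧ r₂ ≠ 0 ∧
        q₁ * r₂ = q₂ * r₁ ∧ ((r₁ ∈ P ∧ r₂ ∉ P) ∨ (r₁ ∉ P ∧ r₂ ∈ P)) := by
  have h20 : ψ q₂ ≠ 0 := (map_ne_zero_iff ψ hψ.inj).2 h₂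
  have h10 : ψ q₁ ≠ 0 := (map_ne_zero_iff ψ hψ.inj).2 h₁
  obtain ⟨x, y, c, hrel, hx, hy⟩ := UniqueFactorizationMonoid.exists_reduced_factors' (ψ q₁) (ψ q₂) h20
  have hc0 : c ≠ 0 := fun h => h20 (by rw [← hy, h, zero_mul])
  have hx0 : x ≠ 0 := fun h => h10 (by rw [← hx, h, mul_zero])
  have hy0 : y ≠ 0 := fun h => h20 (by rw [← hy, h, mul_zero])
  by_cases hu : IsUnit x ∧ IsUnit y
  · left
    obtain ⟨⟨x', rfl⟩, ⟨y', rfl⟩⟩ := hu
    obtain ⟨a, a', ha, ha', hw⟩ := hψ.units ((x' * y'⁻¹ : Dˣ) : D) (Units.isUnit _)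
    refine ⟨a, a', ha, ha', hψ.inj ?_⟩
    rw [map_mul, map_mul, ← hw, ← hx, ← hy, Units.val_mul,
      show c * (y' : D) * ((x' : D) * ((y'⁻¹ : Dˣ) : D) * ψ (φ a')) =
        c * x' * ψ (φ a') * ((y' : D) * ((y'⁻¹ : Dˣ) : D)) by ring,
      Units.mul_inv, mul_one]
  · right
    obtain ⟨π, hπ, hdiv⟩ : ∃ π : D, Prime π ∧ (π ∣ x ∨ π ∣ y) := by
      rcases not_and_or.1 hu with h | h
      · obtain ⟨π, hπ, hd⟩ := WfDvdMonoid.exists_irreducible_factor h hx0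
        exact ⟨π, UniqueFactorizationMonoid.irreducible_iff_prime.1 hπ, Or.inl hd⟩
      · obtain ⟨π, hπ, hd⟩ := WfDvdMonoid.exists_irreducible_factor h hy0
        exact ⟨π, UniqueFactorizationMonoid.irreducible_iff_prime.1 hπ, Or.inr hd⟩
    obtain ⟨hpr, h0, b, hb0, hgen, -, -⟩ := horPrime_spec hψ hπ
    obtain ⟨a, ha, X, hX⟩ := hψ.surj x
    obtain ⟨a', ha', Y, hY⟩ := hψ.surj y
    have hX0 : X ≠ 0 := fun h => by
      rw [h, map_zero] at hX
      exact hx0 ((hψ.isUnit a ha).mul_left_eq_zero.1 hX.symm)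
    have hY0 : Y ≠ 0 := fun h => by
      rw [h, map_zero] at hY
      exact hy0 ((hψ.isUnit a' ha').mul_left_eq_zero.1 hY.symm)
    have hnot : ∀ a : A, a ≠ 0 → φ a ∉ horPrime ψ π := fun a ha h => ha (by
      have : a ∈ (horPrime ψ π).comap φ := h
      rwa [h0, Ideal.mem_bot] at this)
    have hmem : ∀ (Z : B) (z : D) (e e' : A), e ≠ 0 → e' ≠ 0 → ψ Z = z * ψ (φ e) →
        (Z * φ e' ∈ horPrime ψ π ↔ π ∣ z) := by
      intro Z z e e' he he' hZ
      rw [horPrime, Ideal.mem_comap, Ideal.mem_span_singleton, map_mul, hZ, mul_assoc,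
        IsUnit.dvd_mul_right ((hψ.isUnit e he).mul (hψ.isUnit e' he'))]
    have hnz : ∀ (e : A), e ≠ 0 → φ e ≠ 0 := fun e he h =>
      hnot e he (by rw [h]; exact zero_mem _)
    refine ⟨_, b, X * φ a', Y * φ a, hpr, h0, hb0, hgen, mul_ne_zero hX0 (hnz a' ha'),
      mul_ne_zero hY0 (hnz a ha), hψ.inj ?_, ?_⟩
    · rw [map_mul, map_mul, map_mul, map_mul, hX, hY, ← hx, ← hy]
      ring
    · rw [hmem X x a a' ha ha' hX, hmem Y y a' a ha' ha hY]
      rcases hdiv with h | h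
      · exact Or.inl ⟨h, fun h' => hπ.not_unit (hrel h h')⟩
      · exact Or.inr ⟨fun h' => hπ.not_unit (hrel h' h), h⟩

end Groth.Agent.AffDiv
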